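import Mathlib
import Groth.Agent.Lib.Helper5.Ultra.UpG
import Groth.Agent.Lib.Helper8.Val.RedFib

/-!
# Specialization pairs over a valuation ring: an algebraic criterion (towards S7291)
-/

set_option autoImplicit false

universe u

open IsLocalRing

namespace Groth.Agent.H5.HvLim

section Ring

variable {V C : Type u} [CommRing V] [IsDomain V] [ValuationRing V] [CommRing C] (ρ : V →+* C)

/-- the obstruction to a specialization pair over (generic point, closed point) -/
def Bad : Prop :=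
  ∃ v : V, v ≠ 0 ∧ ∃ m₀ ∈ maximalIdeal V, ∃ c : C, ρ v * (1 - ρ m₀ * c) = 0

/-- a pair of primes over (0) and the maximal ideal -/
def Pair : Prop :=
  ∃ p' p : PrimeSpectrum C, p' ≤ p ∧ p'.asIdeal.comap ρ = ⊥ ∧ p.asIdeal.comap ρ = maximalIdeal V

theorem not_bad_of_pair (h : Pair ρ) : ¬ Bad ρ := by
  rintro ⟨v, hv, m₀, hm₀, c, hc⟩
  obtain ⟨p', p, hle, hp', hp⟩ := h
  have h0 : ρ v * (1 - ρ m₀ * c) ∈ p'.asIdeal := by rw [hc]; exact Ideal.zero_mem _
  rcases p'.2.mem_or_mem h0 with h1 | h1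
  · have : v ∈ p'.asIdeal.comap ρ := h1
    rw [hp', Ideal.mem_bot] at this
    exact hv this
  · have h2 : (1 - ρ m₀ * c) ∈ p.asIdeal := hle h1
    have h3 : m₀ ∈ p.asIdeal.comap ρ := by rw [hp]; exact hm₀
    have h4 : ρ m₀ * c ∈ p.asIdeal := Ideal.mul_mem_right _ _ h3
    have h5 : (1 : C) ∈ p.asIdeal := by
      have := Ideal.add_mem _ h2 h4
      simpa using this
    exact p.2.ne_top ((Ideal.eq_top_iff_one _).mpr h5)

theorem pair_of_not_bad (h : ¬ Bad ρ) : Pair ρ := by
  letI : Algebra V C := ρ.toAlgebra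
  have hρ : algebraMap V C = ρ := rfl
  let T : Ideal C := Groth.Agent.H5.Ultra.torsionIdeal V C
  let I : Ideal C := T ⊔ Ideal.map ρ (maximalIdeal V)
  have hI : I ≠ ⊤ := by
    intro hI
    have h1 : (1 : C) ∈ I := by rw [hI]; exact Submodule.mem_top
    obtain ⟨t, ht, x, hx, htx⟩ := Submodule.mem_sup.mp h1
    obtain ⟨a, ha, hat⟩ := (Groth.Agent.H5.Ultra.mem_torsionIdeal V C t).mp ht
    obtain ⟨m₀, hm₀, b, hb⟩ := Groth.Agent.H8.Val.exists_mul_of_mem_map V C (maximalIdeal V) x hx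
    apply h
    refine ⟨a, ha, m₀, hm₀, b, ?_⟩
    have e1 : t = 1 - ρ m₀ * b := by
      rw [← htx, hb, hρ]; ring
    rw [← e1]
    rw [Algebra.smul_def, hρ] at hat
    exact hat
  obtain ⟨M, hM, hIM⟩ := Ideal.exists_le_maximal I hI
  haveI : M.IsPrime := hM.isPrime
  have hTM : T ≤ M := le_trans le_sup_left hIM
  have hmM : Ideal.map ρ (maximalIdeal V) ≤ M := le_trans le_sup_right hIM
  have hMm : M.comap ρ = maximalIdeal V := by
    apply le_antisymm
    · exact IsLocalRing.le_maximalIdeal (Ideal.comap_ne_top ρ hM.ne_top)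
    · exact Ideal.map_le_iff_le_comap.mp hmM
  -- going down in `C ⧸ T`
  let mk : C →+* C ⧸ T := Ideal.Quotient.mk T
  have hmk : Function.Surjective mk := Ideal.Quotient.mk_surjective
  have hker : RingHom.ker mk ≤ M := by
    rw [Ideal.mk_ker]
    exact hTM
  let Q : Ideal (C ⧸ T) := Ideal.map mk M
  haveI : Q.IsPrime := Ideal.map_isPrime_of_surjective hmk hker
  have hQM : Q.comap mk = M := by
    rw [Ideal.comap_map_of_surjective mk hmk]
    have : Ideal.comap mk ⊥ = T := by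
      rw [← RingHom.ker_eq_comap_bot, Ideal.mk_ker]
    rw [this]
    exact sup_eq_left.mpr hTM
  have halg : algebraMap V (C ⧸ T) = mk.comp ρ := rfl
  haveI : Q.LiesOver (maximalIdeal V) := by
    constructor
    rw [Ideal.under_def, halg, ← Ideal.comap_comap, hQM, hMm]
  haveI : (⊥ : Ideal V).IsPrime := Ideal.isPrime_bot
  obtain ⟨P, hPQ, hP, hPl⟩ := Ideal.exists_ideal_le_liesOver_of_le (p := (⊥ : Ideal V))
    (q := maximalIdeal V) Q bot_le
  haveI := hP
  refine ⟨⟨P.comap mk, inferInstance⟩, ⟨M, inferInstance⟩, ?_, ?_, hMm⟩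
  · change P.comap mk ≤ M
    rw [← hQM]
    exact Ideal.comap_mono hPQ
  · change (P.comap mk).comap ρ = ⊥
    rw [Ideal.comap_comap, ← halg]
    exact (hPl.over).symm

end Ring

end Groth.Agent.H5.HvLim
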