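import Mathlib
import Groth.Agent.Lib.Helper5.HvLim.HvA

/-!
# Specialization pairs in affine schemes over a valuation ring (towards S7291)
-/

set_option autoImplicit false
set_option backward.isDefEq.respectTransparency false
set_option backward.isDefEq.respectTransparency.types false

universe u

open CategoryTheory CategoryTheory.Limits AlgebraicGeometry IsLocalRing

namespace Groth.Agent.H5.HvLim

section Sch

variable {V : CommRingCat.{u}} {Z : Scheme.{u}} [IsAffine Z] (f : Z ⟶ Spec V)

/-- the ring map of an affine scheme over `Spec V` -/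
noncomputable def phi : V ⟶ Γ(Z, ⊤) := (Scheme.ΓSpecIso V).inv ≫ f.appTop

lemma eq_isoSpec_comp : f = Z.isoSpec.hom ≫ Spec.map (phi f) := by
  have h1 := Scheme.isoSpec_hom_naturality f
  rw [Scheme.isoSpec_Spec_hom] at h1
  unfold phi
  rw [Spec.map_comp, ← Category.assoc, h1, Category.assoc, ← Spec.map_comp, Iso.inv_hom_id,
    Spec.map_id, Category.comp_id]

lemma phi_comp {Z' : Scheme.{u}} [IsAffine Z'] (a : Z' ⟶ Z) :
    phi (a ≫ f) = phi f ≫ a.appTop := by
  unfold phi
  rw [Scheme.Hom.comp_appTop, Category.assoc]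

variable [IsDomain V] [ValuationRing V]

/-- a specialization pair over (generic point, closed point) -/
def PairS : Prop := ∃ z' z : Z, z' ⤳ z ∧ (f z').asIdeal = ⊥ ∧ f z = closedPoint V

lemma apply_eq (z : Z) : (f z).asIdeal = (Z.isoSpec.hom z).asIdeal.comap (phi f).hom := by
  conv_lhs => rw [eq_isoSpec_comp f]
  rfl

theorem pairS_iff : PairS f ↔ Pair (phi f).hom := by
  constructor
  · rintro ⟨z', z, hz, hz', hzc⟩
    refine ⟨Z.isoSpec.hom z', Z.isoSpec.hom z, ?_, ?_, ?_⟩
    · exact (PrimeSpectrum.le_iff_specializes _ _).mpr (hz.map Z.isoSpec.hom.continuous)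
    · rw [← apply_eq, hz']
    · rw [← apply_eq, hzc]
      rfl
  · rintro ⟨p', p, hle, hp', hp⟩
    have hsp : p' ⤳ p := (PrimeSpectrum.le_iff_specializes _ _).mp hle
    have e1 : ∀ q : Spec Γ(Z, ⊤), Z.isoSpec.hom (Z.isoSpec.inv q) = q := fun q => by
      rw [← Scheme.Hom.comp_apply, Iso.inv_hom_id]
      rfl
    refine ⟨Z.isoSpec.inv p', Z.isoSpec.inv p, hsp.map Z.isoSpec.inv.continuous, ?_, ?_⟩
    · rw [apply_eq, e1]
      exact hp'
    · apply PrimeSpectrum.ext
      rw [apply_eq, e1]
      exact hp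

end Sch

end Groth.Agent.H5.HvLim
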