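import Mathlib
import Groth.Prelude.Def_HTop
import Groth.Agent.Lib.Helper5.HvLim.HvB
import Groth.Agent.Lib.Helper5.Lim.BaseChangeOver
import Groth.Agent.Lib.Helper1.VCov
import Groth.Agent.Lib.Helper1.ValLift

/-!
# S7291: standard V coverings and cofiltered limits of affine schemes
-/

set_option autoImplicit false
set_option backward.isDefEq.respectTransparency false
set_option backward.isDefEq.respectTransparency.types false

universe w u

open CategoryTheory CategoryTheory.Limits AlgebraicGeometry IsLocalRing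

namespace Groth.Agent.H5.HvLim

open Groth.Agent.H5.Lim Groth.Agent.Lib.Helper1.ValLift

section Transfer

variable {V : CommRingCat.{u}} {Z Z' : Scheme.{u}} [IsAffine Z] [IsAffine Z']

lemma bad_transfer (f : Z ⟶ Spec V) (a : Z' ⟶ Z) (v m₀ : V) (c : Γ(Z, ⊤)) :
    a.appTop.hom ((phi f).hom v * (1 - (phi f).hom m₀ * c)) =
      (phi (a ≫ f)).hom v * (1 - (phi (a ≫ f)).hom m₀ * a.appTop.hom c) := by
  rw [phi_comp]
  simp only [map_mul, map_sub, map_one, CommRingCat.hom_comp, RingHom.coe_comp,
    Function.comp_apply]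

end Transfer

section Limit

variable {V : CommRingCat.{u}} [IsDomain V] [ValuationRing V]
  {I : Type u} [SmallCategory I] [IsCofiltered I] (E : I ⥤ Scheme.{u}) [∀ i, IsAffine (E.obj i)]
  (cE : Cone E) (hcE : IsLimit cE) (fE : ∀ i, E.obj i ⟶ Spec V)
  (hfE : ∀ {i j : I} (a : i ⟶ j), E.map a ≫ fE j = fE i) (f : cE.pt ⟶ Spec V)
  (hf : ∀ i, cE.π.app i ≫ fE i = f)

include hcE hfE hf in
/-- specialization pairs over (generic, closed) pass to cofiltered limits of affine schemes -/
theorem pairS_of_isLimit (h : ∀ i, PairS (fE i)) :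
    haveI : IsAffine cE.pt := Scheme.isAffine_of_isLimit cE hcE
    PairS f := by
  haveI : IsAffine cE.pt := Scheme.isAffine_of_isLimit cE hcE
  rw [pairS_iff]
  apply pair_of_not_bad
  rintro ⟨v, hv, m₀, hm₀, c₀, hc₀⟩
  obtain ⟨i, ci, hci⟩ := exists_appTop_π_eq_of_isAffine_of_isLimit E cE hcE c₀
  let πi : cE.pt ⟶ E.obj i := cE.π.app i
  have hci' : πi.appTop.hom ci = c₀ := hci
  let ei : Γ(E.obj i, ⊤) := (phi (fE i)).hom v * (1 - (phi (fE i)).hom m₀ * ci)
  have h1 : (cE.π.app i).appTop ei = 0 := by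
    change πi.appTop.hom ei = 0
    rw [bad_transfer (fE i) πi v m₀ ci, hci']
    have e2 : phi (πi ≫ fE i) = phi f := by rw [hf]
    rw [e2]
    exact hc₀
  obtain ⟨j, a, hj⟩ := exists_appTop_map_eq_zero_of_isAffine_of_isLimit E cE hcE i ei h1
  have hj' : (E.map a).appTop.hom ei = 0 := hj
  rw [bad_transfer (fE i) (E.map a) v m₀ ci] at hj'
  have e3 : phi (E.map a ≫ fE i) = phi (fE j) := by rw [hfE]
  rw [e3] at hj'
  exact not_bad_of_pair _ ((pairS_iff (fE j)).mp (h j)) ⟨v, hv, m₀, hm₀, _, hj'⟩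

end Limit

section Main

variable {Y : Scheme.{u}} [IsAffine Y] {I : Type u} [SmallCategory I] [IsCofiltered I]
  (D : I ⥤ Over Y) [∀ i, IsAffine (D.obj i).left] (c : Cone D)
  (hc : IsLimit ((Over.forget Y).mapCone c))

include hc in
theorem main_S7291 :
    HTop.IsStandardV (PreZeroHypercover.singleton.{w} c.pt.hom) ↔
      ∀ i, HTop.IsStandardV (PreZeroHypercover.singleton.{w} (D.obj i).hom) := by
  constructor
  · intro h i
    refine ⟨inferInstance, inferInstance, fun _ => (inferInstance : IsAffine (D.obj i).left), ?_⟩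
    intro V _ _ g
    obtain ⟨W, hd, hv, φ, hφ, j, g', hg'⟩ := h.lift V g
    refine ⟨W, hd, hv, φ, hφ, PUnit.unit, g' ≫ (c.π.app i).left, ?_⟩
    have e1 : (c.π.app i).left ≫ (D.obj i).hom = c.pt.hom := CategoryTheory.Over.w (c.π.app i)
    change (g' ≫ (c.π.app i).left) ≫ (D.obj i).hom = Spec.map φ ≫ g
    rw [Category.assoc, e1]
    exact hg'
  · intro h
    let D' : I ⥤ Scheme.{u} := D ⋙ Over.forget Y
    haveI : ∀ i, IsAffine (D'.obj i) := fun i => inferInstanceAs (IsAffine (D.obj i).left)
    let c' : Cone D' := (Over.forget Y).mapCone c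
    haveI : IsAffine c.pt.left := Scheme.isAffine_of_isLimit c' hc
    refine ⟨inferInstance, inferInstance, fun _ => (inferInstance : IsAffine c.pt.left), ?_⟩
    apply hasValLift_of_exists_specializes
    intro V _ _ g
    let t : D' ⟶ (Functor.const I).obj Y :=
      { app := fun i => (D.obj i).hom
        naturality := fun i j a => by
          change (D.map a).left ≫ (D.obj j).hom = (D.obj i).hom ≫ 𝟙 Y
          rw [CategoryTheory.Over.w, Category.comp_id] }
    have hp : ∀ k, c'.π.app k ≫ t.app k = c.pt.hom := fun k => CategoryTheory.Over.w (c.π.app k)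
    let E : I ⥤ Scheme.{u} := tbcDiagram D' t g
    let cE : Cone E := tbcCone D' t g c' c.pt.hom hp
    have hcE : IsLimit cE := isLimitTbcCone D' t g c' c.pt.hom hp hc
    haveI : ∀ i, IsAffine (E.obj i) := fun i =>
      inferInstanceAs (IsAffine (pullback g (D.obj i).hom))
    have hpairs : ∀ i, PairS (pullback.fst g (t.app i)) := by
      intro i
      obtain ⟨j, w', w, hw, hw1, hw2⟩ := exists_specializes_of_hasValLift
        (PreZeroHypercover.singleton.{w} (D.obj i).hom) (h i).lift g
        (bot_specializes (closedPoint V))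
      refine ⟨w', w, hw, ?_, hw2⟩
      have : pullback.fst g (t.app i) w' = (⟨⊥, Ideal.isPrime_bot⟩ : PrimeSpectrum V) := hw1
      rw [this]
    have hmain := pairS_of_isLimit E cE hcE (fun i => pullback.fst g (t.app i))
      (fun {i j} a => tbcMap_fst D' t g a) (pullback.fst g c.pt.hom)
      (fun i => tbcProj_fst D' t g c' c.pt.hom hp i) hpairs
    obtain ⟨z', z, hz, hz1, hz2⟩ := hmain
    exact ⟨PUnit.unit, z', z, hz, hz1, hz2⟩

end Main

end Groth.Agent.H5.HvLim
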