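import Mathlib
import Groth.Prelude.Def_HTop
import Groth.Agent.Lib.Helper5.Lim.ModelOver
import Groth.Agent.Lib.Helper5.Ultra.UpE
import Groth.Agent.Lib.Helper1.VCov
import Groth.Agent.Lib.Helper1.Subtr1

/-!
# S9006: standard h coverings of a cofiltered limit of affine schemes come from a finite stage
-/

set_option autoImplicit false
set_option backward.isDefEq.respectTransparency false
set_option backward.isDefEq.respectTransparency.types false

universe w u

open CategoryTheory CategoryTheory.Limits AlgebraicGeometry IsLocalRing HTop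

namespace Groth.Agent.H5.HvLim

open Groth.Agent.H5.Lim Groth.Agent.Lib.Helper1.ValLift Groth.Agent.Lib.Helper1.Subtr1

/-- a finite family of affine schemes over an affine base with the valuative lifting property is
a V covering -/
theorem isVCover_of_hasValLift_of_finite_affine {T : Scheme.{u}} [IsAffine T]
    (E : PreZeroHypercover.{w} T) [Finite E.I₀] [∀ j, IsAffine (E.X j)] (hE : HasValLift E) :
    IsVCover E := by
  rintro ⟨U, (hU : IsAffineOpen U)⟩
  haveI : IsAffine (↑U : Scheme.{u}) := hU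
  obtain ⟨n, ⟨ε⟩⟩ := Finite.exists_equiv_fin E.I₀
  let F : PreZeroHypercover.{0} (↑U : Scheme.{u}) :=
    { I₀ := Fin n
      X := fun a => pullback (E.f (ε.symm a)) U.ι
      f := fun a => pullback.snd (E.f (ε.symm a)) U.ι }
  refine ⟨F, ⟨hU, inferInstanceAs (Finite (Fin n)), fun a =>
    inferInstanceAs (IsAffine (pullback (E.f (ε.symm a)) U.ι)), ?_⟩, ?_⟩
  · intro V _ _ g
    obtain ⟨W, hd, hv, φ, hφ, j, g', hg'⟩ := hE V (g ≫ U.ι)
    obtain ⟨a, rfl⟩ := ε.symm.surjective j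
    refine ⟨W, hd, hv, φ, hφ, a, pullback.lift g' (Spec.map φ ≫ g) (by rw [hg', Category.assoc]),
      ?_⟩
    exact pullback.lift_snd _ _ _
  · intro a
    exact ⟨ε.symm a, pullback.fst (E.f (ε.symm a)) U.ι, pullback.condition⟩

section Main

variable {I : Type u} [SmallCategory I] [IsCofiltered I] (D : I ⥤ Scheme.{u})
  [∀ i, IsAffine (D.obj i)] (c : Cone D) (hc : IsLimit c) [IsAffine c.pt]

include hc in
theorem main_S9006 (V : PreZeroHypercover.{w} c.pt) (hV : HTop.IsStandardH V) :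
    ∃ (i : I) (W : PreZeroHypercover.{w} (D.obj i)), HTop.IsStandardH W ∧
      ∃ (σ : V.I₀ ≃ W.I₀) (e : ∀ j, V.X j ≅ pullback (c.π.app i) (W.f (σ j))),
        ∀ j, (e j).hom ≫ pullback.fst (c.π.app i) (W.f (σ j)) = V.f j := by
  classical
  haveI := hV.finite_index
  haveI := hV.isAffine_obj
  haveI : Fintype V.I₀ := Fintype.ofFinite _
  haveI : ∀ (i j : I) (f : i ⟶ j), IsAffineHom (D.map f) := fun i j f => inferInstance
  haveI : ∀ j, LocallyOfFinitePresentation (V.f j) := hV.finitePresentation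
  have i₀ : I := IsCofiltered.nonempty.some
  -- models of the members
  have hmod : ∀ j : V.I₀, ∃ (k : I) (_ : k ⟶ i₀) (Xk : Scheme.{u}) (fk : Xk ⟶ D.obj k)
      (g : V.X j ⟶ Xk), IsAffineHom fk ∧ LocallyOfFinitePresentation fk ∧ QuasiCompact fk ∧
        QuasiSeparated fk ∧ IsPullback g (V.f j) fk (c.π.app k) := fun j =>
    exists_model_over D c hc i₀ affineSystemDescent_isAffineHom
      (fun g h1 h2 h3 => ⟨h2, h3⟩) (V.f j) (inferInstance : IsAffineHom (V.f j))
  choose k _hk Xk fk gk hk1 hk2 hk3 hk4 hk5 using hmod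
  obtain ⟨k₀, hk₀⟩ := IsCofiltered.inf_objs_exists (Finset.univ.image k)
  have a : ∀ j, k₀ ⟶ k j := fun j => (hk₀ (Finset.mem_image_of_mem k (Finset.mem_univ j))).some
  -- the family at stage `k₀`
  let X₀ : V.I₀ → Scheme.{u} := fun j => pullback (fk j) (D.map (a j))
  let f₀ : ∀ j, X₀ j ⟶ D.obj k₀ := fun j => pullback.snd (fk j) (D.map (a j))
  haveI : ∀ j, IsAffineHom (f₀ j) := fun j =>
    MorphismProperty.pullback_snd (P := @IsAffineHom) _ _ (hk1 j)
  haveI : ∀ j, LocallyOfFinitePresentation (f₀ j) := fun j =>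
    MorphismProperty.pullback_snd (P := @LocallyOfFinitePresentation) _ _ (hk2 j)
  haveI : ∀ j, IsAffine (X₀ j) := fun j => isAffine_of_isAffineHom (f₀ j)
  have hcond : ∀ j, gk j ≫ fk j = (V.f j ≫ c.π.app k₀) ≫ D.map (a j) := fun j => by
    rw [Category.assoc, c.w, (hk5 j).w]
  let l₀ : ∀ j, V.X j ⟶ X₀ j := fun j => pullback.lift (gk j) (V.f j ≫ c.π.app k₀) (hcond j)
  have hl₀1 : ∀ j, l₀ j ≫ pullback.fst (fk j) (D.map (a j)) = gk j := fun j =>
    pullback.lift_fst _ _ _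
  have hl₀2 : ∀ j, l₀ j ≫ f₀ j = V.f j ≫ c.π.app k₀ := fun j => pullback.lift_snd _ _ _
  have sq₀ : ∀ j, IsPullback (l₀ j) (V.f j) (f₀ j) (c.π.app k₀) := fun j => by
    have hbig : IsPullback (l₀ j ≫ pullback.fst (fk j) (D.map (a j))) (V.f j) (fk j)
        (c.π.app k₀ ≫ D.map (a j)) := by
      rw [hl₀1, c.w]
      exact hk5 j
    exact IsPullback.of_right hbig (hl₀2 j) (IsPullback.of_hasPullback (fk j) (D.map (a j)))
  -- the coproduct
  let F₀ : (∐ X₀) ⟶ D.obj k₀ := Sigma.desc f₀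
  haveI : IsAffine (∐ X₀) := inferInstance
  haveI : LocallyOfFinitePresentation F₀ :=
    IsZariskiLocalAtSource.sigmaDesc (P := @LocallyOfFinitePresentation) fun j => inferInstance
  haveI : QuasiCompact F₀ := inferInstance
  haveI : QuasiSeparated F₀ := inferInstance
  have hVlift : HasValLift V := hasValLift_of_isVCover V hV.isVCover
  have hlim : Subtr.UnivSSubtrusive (pullback.snd F₀ (c.π.app k₀)) := by
    rw [univSSubtrusive_iff_valLift]
    intro Vr _ _ g
    obtain ⟨Wr, hd, hv, φ, hφ, j, g', hg'⟩ := hVlift Vr g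
    refine ⟨Wr, hd, hv, φ, hφ, pullback.lift (g' ≫ l₀ j ≫ Sigma.ι X₀ j) (Spec.map φ ≫ g) ?_, ?_⟩
    · rw [Category.assoc, Category.assoc, Sigma.ι_desc, hl₀2, ← Category.assoc, hg',
        Category.assoc]
    · exact pullback.lift_snd _ _ _
  obtain ⟨k₁, φ₁, hφ₁⟩ := Groth.Agent.H5.Ultra.affineSystemDescent_univSSubtrusive D c hc k₀ F₀
    ⟨⟨⟨inferInstance, inferInstance⟩, inferInstance⟩, trivial⟩ hlim
  -- the family at stage `k₁`
  let W : PreZeroHypercover.{w} (D.obj k₁) :=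
    { I₀ := V.I₀
      X := fun j => pullback (f₀ j) (D.map φ₁)
      f := fun j => pullback.snd (f₀ j) (D.map φ₁) }
  haveI : ∀ j, IsAffine (W.X j) := fun j =>
    inferInstanceAs (IsAffine (pullback (f₀ j) (D.map φ₁)))
  haveI : Finite W.I₀ := ‹Finite V.I₀›
  have hWlift : HasValLift W := by
    intro Vr _ _ g
    obtain ⟨Wr, hd, hv, φ, hφ, g', hg'⟩ := (univSSubtrusive_iff_valLift.mp hφ₁) Vr g
    haveI := hd
    haveI := hv
    let q : Spec Wr ⟶ ∐ X₀ := g' ≫ pullback.fst F₀ (D.map φ₁)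
    obtain ⟨j, z, hz⟩ := (sigmaOpenCover X₀).exists_eq (q (closedPoint Wr))
    have hmem : q (closedPoint Wr) ∈ (Sigma.ι X₀ j).opensRange := ⟨z, hz⟩
    obtain ⟨q', hq'⟩ := exists_lift_opens (Sigma.ι X₀ j).opensRange q hmem
    let q₁ : Spec Wr ⟶ X₀ j := q' ≫ (Sigma.ι X₀ j).isoOpensRange.inv
    have hq₁ : q₁ ≫ Sigma.ι X₀ j = q := by
      have e1 : (Sigma.ι X₀ j).isoOpensRange.inv ≫ Sigma.ι X₀ j = (Sigma.ι X₀ j).opensRange.ι := by
        rw [Iso.inv_comp_eq, Scheme.Hom.isoOpensRange_hom_ι]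
      change (q' ≫ (Sigma.ι X₀ j).isoOpensRange.inv) ≫ Sigma.ι X₀ j = q
      rw [Category.assoc, e1, hq']
    have hcnd : q₁ ≫ f₀ j = (Spec.map φ ≫ g) ≫ D.map φ₁ := by
      have e2 : f₀ j = Sigma.ι X₀ j ≫ F₀ := (Sigma.ι_desc f₀ j).symm
      rw [e2, ← Category.assoc, hq₁]
      change (g' ≫ pullback.fst F₀ (D.map φ₁)) ≫ F₀ = _
      rw [Category.assoc, pullback.condition, ← Category.assoc, hg']
    refine ⟨Wr, hd, hv, φ, hφ, j, pullback.lift q₁ (Spec.map φ ≫ g) hcnd, ?_⟩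
    exact pullback.lift_snd _ _ _
  have hW : HTop.IsStandardH W :=
    ⟨inferInstance, inferInstance, inferInstance, fun j =>
      MorphismProperty.pullback_snd (P := @LocallyOfFinitePresentation) _ _ inferInstance,
      isVCover_of_hasValLift_of_finite_affine W hWlift⟩
  -- the isomorphisms
  have hcond₁ : ∀ j, l₀ j ≫ f₀ j = (V.f j ≫ c.π.app k₁) ≫ D.map φ₁ := fun j => by
    rw [Category.assoc, c.w, hl₀2]
  let m : ∀ j, V.X j ⟶ W.X j := fun j => pullback.lift (l₀ j) (V.f j ≫ c.π.app k₁) (hcond₁ j)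
  have hm1 : ∀ j, m j ≫ pullback.fst (f₀ j) (D.map φ₁) = l₀ j := fun j => pullback.lift_fst _ _ _
  have hm2 : ∀ j, m j ≫ W.f j = V.f j ≫ c.π.app k₁ := fun j => pullback.lift_snd _ _ _
  have sq₁ : ∀ j, IsPullback (m j) (V.f j) (W.f j) (c.π.app k₁) := fun j => by
    have hbig : IsPullback (m j ≫ pullback.fst (f₀ j) (D.map φ₁)) (V.f j) (f₀ j)
        (c.π.app k₁ ≫ D.map φ₁) := by
      rw [hm1, c.w]
      exact sq₀ j
    exact IsPullback.of_right hbig (hm2 j) (IsPullback.of_hasPullback (f₀ j) (D.map φ₁))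
  refine ⟨k₁, W, hW, Equiv.refl _, fun j => (sq₁ j).flip.isoPullback, fun j => ?_⟩
  exact (sq₁ j).flip.isoPullback_hom_fst

end Main

end Groth.Agent.H5.HvLim
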